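import Cfsg.Agent.Lib.Steiner.Basic

/-!
Intersection numbers of the Mathieu Steiner systems from the intersection triangle.
-/

set_option autoImplicit false

namespace Cfsg.Agent.Sporadic13

open Cfsg.Agent.Steiner

variable {α : Type*} [Fintype α] [DecidableEq α] {t k : ℕ} {B : Set (Finset α)}

/-- The number of blocks through a subset of a block, read from a table. -/
theorem lam_of_table (hB : Cfsg.IsSteinerSystem t k B) {v : ℕ} (hv : Fintype.card α = v)
    (L : List ℕ) (hL : ∀ j ≤ k, if j ≤ t then
        0 < (k - j).choose (t - j) ∧ L.getD j 0 * (k - j).choose (t - j) = (v - j).choose (t - j)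
      else L.getD j 0 = 1)
    {b : Finset α} (hb : b ∈ B) (T : Finset α) (hT : T ⊆ b) :
    ((blocksThru B T).card : ℤ) = ((L.getD T.card 0 : ℕ) : ℤ) := by
  have hle : T.card ≤ k := hB.1 b hb ▸ Finset.card_le_card hT
  have h := hL _ hle
  congr 1
  split at h
  · rename_i hjt
    exact card_blocksThru_eq hB rfl hv _ hjt h.1 h.2
  · rename_i hjt
    rw [h, card_blocksThru_of_subset_block hB hb hT (by omega)]

theorem inter_values (hB : Cfsg.IsSteinerSystem t k B) {v : ℕ} (hv : Fintype.card α = v)
    (L : List ℕ) (hL : ∀ j ≤ k, if j ≤ t then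
        0 < (k - j).choose (t - j) ∧ L.getD j 0 * (k - j).choose (t - j) = (v - j).choose (t - j)
      else L.getD j 0 = 1)
    (ok : ℕ → Bool)
    (htri : ∀ i < k, ok i = true ∨ triangle (fun j => ((L.getD j 0 : ℕ) : ℤ)) (k - i) i = 0)
    {b c : Finset α} (hb : b ∈ B) (hc : c ∈ B) (hbc : b ≠ c) : ok (b ∩ c).card = true := by
  have hlt : (b ∩ c).card < k := by
    rcases lt_or_eq_of_le (hB.1 b hb ▸ Finset.card_le_card Finset.inter_subset_left :
      (b ∩ c).card ≤ k) with h | h
    · exact h
    · exfalso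
      have h1 : b ∩ c = b := Finset.eq_of_subset_of_card_le Finset.inter_subset_left
        (by rw [h, hB.1 b hb])
      have h2 : b ∩ c = c := Finset.eq_of_subset_of_card_le Finset.inter_subset_right
        (by rw [h, hB.1 c hc])
      exact hbc (h1.symm.trans h2)
  refine (htri _ hlt).resolve_right fun h0 => ?_
  refine inter_card_ne _ hb hc (fun T hT => lam_of_table hB hv L hL hb T hT) (hB.1 b hb) h0 ?_
  rw [Finset.inter_comm]

theorem card_disjoint_blocks (hB : Cfsg.IsSteinerSystem t k B) {v : ℕ} (hv : Fintype.card α = v)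
    (L : List ℕ) (hL : ∀ j ≤ k, if j ≤ t then
        0 < (k - j).choose (t - j) ∧ L.getD j 0 * (k - j).choose (t - j) = (v - j).choose (t - j)
      else L.getD j 0 = 1)
    (n : ℕ) (htri : triangle (fun j => ((L.getD j 0 : ℕ) : ℤ)) k 0 = n)
    {b : Finset α} (hb : b ∈ B) :
    ((blocksOf B).filter fun c => c ∩ b = ∅).card = n := by
  have h := card_inter_eq_triangle (B := B) (fun j => ((L.getD j 0 : ℕ) : ℤ)) k ∅ b
    (Finset.empty_subset b) (by rw [Finset.sdiff_empty, hB.1 b hb])
    (fun T _ hT => lam_of_table hB hv L hL hb T hT)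
  rw [Finset.card_empty, htri, Nat.cast_inj] at h
  exact h

end Cfsg.Agent.Sporadic13
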